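import Groth.Agent.OmegaLib.IdealMod
import Groth.Agent.QCoh.ClosedPush
import Groth.Agent.QCoh.CechComparison
import Groth.Agent.QCoh.OpenSub
import Groth.Agent.BlowUpX.Projective
import Groth.Agent.S0012
import Groth.Agent.AModX.Res
import Groth.Agent.CechH1Inj.Basic

/-!
# The ideal of a square-zero thickening and its Čech cochains
-/

set_option autoImplicit false
set_option linter.style.haveILetI false
set_option backward.isDefEq.respectTransparency false
set_option backward.isDefEq.respectTransparency.types false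

universe u

open CategoryTheory CategoryTheory.Limits AlgebraicGeometry TopologicalSpace Opposite

namespace Groth.Agent.LineLift

open Groth.Agent Groth.Agent.AModX Groth.Agent.QCoh

variable {X : Scheme.{u}} {I : X.IdealSheafData} (hI : I ^ 2 = ⊥)

include hI in
theorem surjective_ι : Function.Surjective I.subschemeι := fun c => by
  have h := I.support_pow 2 two_ne_zero
  rw [hI, Scheme.IdealSheafData.support_bot] at h
  have hc : c ∈ (I.support : Set X) := by rw [← h]; trivial
  rw [← Scheme.IdealSheafData.range_subschemeι] at hc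
  exact hc

theorem app_res (i : I.subscheme ⟶ X) {V W : X.Opens} (h : W ≤ V) (a : Γ(X, V)) :
    i.app W (resR h a) = resR (i.preimage_mono h) (i.app V a) :=
  congrArg (fun k => k.hom a) (i.naturality (homOfLE h).op)

include hI in
/-- The product of two functions vanishing on the thinner scheme is zero. -/
theorem mul_eq_zero_of_app {W : X.Opens} {a b : Γ(X, W)} (ha : I.subschemeι.app W a = 0)
    (hb : I.subschemeι.app W b = 0) : a * b = 0 := by
  refine TopCat.Presheaf.section_ext X.sheaf _ _ _ fun x hx => ?_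
  obtain ⟨_, ⟨V, hV, rfl⟩, hxV, hVW⟩ := X.isBasis_affineOpens.exists_subset_of_mem_open (show x ∈ W from hx) W.2
  have hmem : ∀ c : Γ(X, W), I.subschemeι.app W c = 0 → resR hVW c ∈ I.ideal ⟨V, hV⟩ := fun c hc => by
    rw [← I.ker_subschemeι_app ⟨V, hV⟩, RingHom.mem_ker]
    exact (app_res I.subschemeι hVW c).trans (by rw [hc, map_zero])
  have h0 : resR hVW (a * b) = 0 := by
    have h2 : resR hVW a * resR hVW b ∈ I.ideal ⟨V, hV⟩ ^ 2 := pow_two (I.ideal ⟨V, hV⟩) ▸ Ideal.mul_mem_mul (hmem a ha) (hmem b hb)
    rw [show I.ideal ⟨V, hV⟩ ^ 2 = (I ^ 2).ideal ⟨V, hV⟩ by rw [I.ideal_pow]; rfl, hI,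
      Scheme.IdealSheafData.ideal_bot] at h2
    rw [map_mul]
    exact h2
  rw [map_zero]
  exact ((TopCat.Presheaf.germ_res_apply X.presheaf (homOfLE hVW) x hxV (a * b)).symm.trans
    (congrArg (X.presheaf.germ V x hxV) h0)).trans (map_zero _)

include hI in
/-- The ideal is a module over the thinner scheme. -/
theorem isIso_unit_idealMod :
    IsIso ((Scheme.Modules.pullbackPushforwardAdjunction I.subschemeι).unit.app (ClSub.idealMod I)) := by
  refine (isIso_unit_closed_iff I.subschemeι (BlowUpX.isQCoh_idealMod I)).2 fun U a ha s => ?_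
  rw [I.ker_subschemeι] at ha
  refine OmegaLib.idealSect_injective I U.1 ?_
  rw [OmegaLib.idealSect_smul, map_zero]
  refine mul_eq_zero_of_app hI ?_ (OmegaLib.subschemeι_app_idealSect I U.1 s)
  rw [← I.ker_subschemeι_app U] at ha
  exact ha

include hI in
/-- Cohomology of the ideal on the two schemes. -/
theorem subsingleton_HH_idealMod (n : ℕ)
    (h : Subsingleton (Coh.HH I.subscheme ((Scheme.Modules.pullback I.subschemeι).obj (ClSub.idealMod I)) n)) :
    Subsingleton (Coh.HH X (ClSub.idealMod I) n) := by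
  haveI := isIso_unit_idealMod hI
  haveI : Coh.IsQCoh ((Scheme.Modules.pullback I.subschemeι).obj (ClSub.idealMod I)) :=
    QCoh.isQCoh_pullback _ (BlowUpX.isQCoh_idealMod I)
  obtain ⟨e⟩ := S0012.result I.subschemeι ((Scheme.Modules.pullback I.subschemeι).obj (ClSub.idealMod I)) n
  haveI := h
  refine QCoh.subsingleton_HH_of_iso (asIso ((Scheme.Modules.pullbackPushforwardAdjunction I.subschemeι).unit.app
    (ClSub.idealMod I))).symm n ?_
  exact e.symm.toEquiv.subsingleton

theorem isAffineOpen_tuple [X.IsSeparated] {ι : Type u} {U : ι → X.Opens} (hU : ∀ p, IsAffineOpen (U p)) {p : ℕ}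
    (σ : Fin (p + 1) → ι) : IsAffineOpen (⨅ a, U (σ a)) := by
  classical
  refine isAffineOpen_iInf_tuple (fun s hs => ?_) σ
  induction hs using Finset.Nonempty.cons_induction with
  | singleton a => simpa using hU a
  | cons a t hat _ ih => rw [Finset.cons_eq_insert, Finset.iInf_insert]; exact (hU a).inf ih

/-- A cocycle on a cover with affine intersections is a coboundary when cohomology vanishes. -/
theorem exists_primitive [X.IsSeparated] {ι : Type u} {U : ι → X.Opens} (hcov : ⨆ p, U p = ⊤)
    (hU : ∀ p, IsAffineOpen (U p)) {M : X.Modules} (hM : Coh.IsQCoh M) (p : ℕ)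
    (h : Subsingleton (Coh.HH X M (p + 1))) (c : Ab.Cochain M.presheaf U (p + 2)) (hc : Ab.IsNatural c)
    (hd : Ab.d c = 0) : ∃ b : Ab.Cochain M.presheaf U (p + 1), Ab.IsNatural b ∧ Ab.d b = c := by
  obtain ⟨e⟩ := Ab.natCx_H_equiv (X := X.toPresheafedSpace.carrier) hcov
    (stdCovers_sectionClass fun σ => isAffineOpen_tuple hU σ) (abSheaf M) (stdCovers_acyclic hM) (p + 1)
  haveI : Subsingleton (CohTop.H (abSheaf M) (p + 1)) := h
  have hz : ((Ab.natCx (abSheaf M).obj U).ExactAt (p + 1)) := by
    rw [HomologicalComplex.exactAt_iff_isZero_homology, AddCommGrpCat.isZero_iff_subsingleton]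
    exact e.toEquiv.subsingleton
  rw [HomologicalComplex.exactAt_iff' _ p (p + 1) (p + 2) (by simp) (by simp), ShortComplex.ab_exact_iff] at hz
  simp only [HomologicalComplex.sc', HomologicalComplex.shortComplexFunctor'_obj_f,
    HomologicalComplex.shortComplexFunctor'_obj_g, Ab.natCx_d] at hz
  obtain ⟨b, hb⟩ := hz ⟨c, hc⟩ (Subtype.ext hd)
  exact ⟨b.1, b.2, congrArg Subtype.val hb⟩

/-- A one-cocycle is a coboundary when first cohomology vanishes; the covering is arbitrary. -/
theorem exists_primitive_one {ι : Type u} {U : ι → X.Opens} (hcov : ⨆ p, U p = ⊤) {M : X.Modules}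
    (h : Subsingleton (Coh.HH X M 1)) (c : Ab.Cochain M.presheaf U 2) (hc : Ab.IsNatural c)
    (hd : Ab.d c = 0) : ∃ b : Ab.Cochain M.presheaf U 1, Ab.IsNatural b ∧ Ab.d b = c :=
  CechH1Inj.exists_primitive (X := X.toPresheafedSpace.carrier) (abSheaf M) hcov h c hc hd

end Groth.Agent.LineLift
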