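import Groth.Agent.LineLift.Kernel
import Groth.Agent.FlatBC6.FinProj
import Groth.Agent.QCoh.TensorUnit
import Groth.Agent.AmpleVan.ThickPush
import Groth.Agent.FFun.GoodM

/-!
# The ideal of a thickening over a small extension of the base
-/

set_option autoImplicit false
set_option linter.style.haveILetI false
set_option maxHeartbeats 1000000
set_option backward.isDefEq.respectTransparency false
set_option backward.isDefEq.respectTransparency.types false

universe u

open CategoryTheory CategoryTheory.Limits AlgebraicGeometry TopologicalSpace Opposite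
open scoped TensorProduct

namespace Groth.Agent.LineLift

open Groth.Agent Groth.Agent.QCoh

variable {R : Type u} [CommRing R] {Y : Scheme.{u}} [Y.Over (Spec (CommRingCat.of R))]

local notation "π" => (Y ↘ Spec (CommRingCat.of R))

/-- A surjection may be replaced by a quotient. -/
theorem exists_quot_square {S : Type u} [CommRing S] (φ : R →+* S) (hφ : Function.Surjective φ) {Z : Scheme.{u}}
    {i : Z ⟶ Y} {q : Z ⟶ Spec (CommRingCat.of S)} (sq : IsPullback i q π (Spec.map (CommRingCat.ofHom φ))) :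
    ∃ q', IsPullback i q' π (Spec.map (CommRingCat.ofHom (Ideal.Quotient.mk (RingHom.ker φ)))) := by
  let e : CommRingCat.of (R ⧸ RingHom.ker φ) ≅ CommRingCat.of S := (RingHom.quotientKerEquivOfSurjective hφ).toCommRingCatIso
  refine ⟨q ≫ Spec.map e.hom, sq.of_iso (Iso.refl _) (Iso.refl _) (asIso (Spec.map e.hom)) (Iso.refl _) (by simp) (by simp) (by simp) ?_⟩
  simp only [Iso.refl_hom, Category.comp_id, asIso_hom]
  rw [← Spec.map_comp]
  rfl

theorem flat_sec [Flat π] {W : Y.Opens} (hW : IsAffineOpen W) :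
    letI := secModule (Coh.toGlobal π) (Coh.structureModule Y) W
    Module.Flat R Γ(Coh.structureModule Y, W) := by
  have h1 : ((π).appLE ⊤ W (fun _ _ => trivial)).hom.Flat := Flat.flat_appLE π (isAffineOpen_top _) hW _
  have h2 : ((Scheme.ΓSpecIso (CommRingCat.of R)).inv.hom).Flat :=
    .of_bijective (ConcreteCategory.bijective_of_isIso (Scheme.ΓSpecIso (CommRingCat.of R)).inv)
  have h := RingHom.Flat.comp h2 h1
  exact h

theorem subsingleton_HH_tA {F : Y.Modules} (N M : ModuleCat.{u} R) (q : ℕ) {n : ℕ}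
    (ii : Fin n → (M ⟶ N)) (pp : Fin n → (N ⟶ M)) (hsum : ∑ j, pp j ≫ ii j = 𝟙 N)
    (h : Subsingleton (Coh.HH Y (tA F M) q)) : Subsingleton (Coh.HH Y (tA F N) q) := by
  let Φ : ∀ {P P' : ModuleCat.{u} R}, (P ⟶ P') → (Coh.HH Y (tA F P) q →+ Coh.HH Y (tA F P') q) :=
    fun g => Sheaf.H.map ((SheafOfModules.toSheaf Y.ringCatSheaf).map ((CohIII.tensorAFunctor R F).map g)) q
  refine subsingleton_of_forall_eq 0 fun y => ?_
  let ev : (N ⟶ N) →+ Coh.HH Y (tA F N) q := AddMonoidHom.mk' (fun g => Φ g y) fun g g' => by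
    show Sheaf.H.map _ q y = _
    rw [Functor.map_add, Functor.map_add]
    exact Sheaf.H.map_add_apply _ _ y
  have h' := congrArg ev hsum
  rw [map_sum] at h'
  have h1 : ev (𝟙 N) = y := by
    show Sheaf.H.map _ q y = y
    rw [CategoryTheory.Functor.map_id, CategoryTheory.Functor.map_id]
    exact Sheaf.H.map_id_apply _
  rw [← h1, ← h']
  refine Finset.sum_eq_zero fun j _ => ?_
  show Φ (pp j ≫ ii j) y = 0
  have h2 : Φ (pp j ≫ ii j) y = Φ (ii j) (Φ (pp j) y) := by
    show Sheaf.H.map _ q y = _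
    rw [Functor.map_comp, Functor.map_comp]
    exact Sheaf.H.map_comp_apply _ _ _
  rw [h2, h.elim (Φ (pp j) y) 0, map_zero]

variable {Z : Scheme.{u}} {i : Z ⟶ Y} [IsClosedImmersion i]

theorem tA_map_elem {J : Ideal R} {W : Y.Opens} (hW : IsAffineOpen W) [Flat π] :
    letI := secModule (Coh.toGlobal π) (Coh.structureModule Y) W
    ∀ (φA : Coh.structureModule Y ≅ tA (Coh.structureModule Y) (ModuleCat.of R R))
      (_ : φA.hom = homOfElem (Coh.structureModule Y) (ModuleCat.of R R) (1 : R)) (s : Γ(Coh.structureModule Y, W)) (a : J),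
      ((CohIII.tensorAFunctor R (Coh.structureModule Y)).map (ModuleCat.ofHom J.subtype) ≫ φA.inv).app W
        (tauA (Coh.structureModule Y) (ModuleCat.of R J) W (s ⊗ₜ[R] a)) = (a : R) • s := by
  letI := secModule (Coh.toGlobal π) (Coh.structureModule Y) W
  intro φA hφ s a
  refine (congrArg (φA.inv.app W) (tauA_naturality (Coh.structureModule Y) (ModuleCat.ofHom J.subtype) W s a)).trans ?_
  apply app_injective φA.hom W
  refine (congr(($(φA.inv_hom_id)).app W _)).trans ?_
  rw [hφ, homOfElem_app]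
  show tauA _ (ModuleCat.of R R) W (s ⊗ₜ[R] (a : R)) = tauA _ (ModuleCat.of R R) W (((a : R) • s) ⊗ₜ[R] (1 : R))
  rw [TensorProduct.smul_tmul, smul_eq_mul, mul_one]

/-- The ideal of the thickening is the base ideal tensored with the functions. -/
theorem exists_iso_tA [Flat π] {J : Ideal R} {q : Z ⟶ Spec (CommRingCat.of (R ⧸ J))}
    (sq : IsPullback i q π (Spec.map (CommRingCat.ofHom (Ideal.Quotient.mk J)))) :
    Nonempty (tA (Coh.structureModule Y) (ModuleCat.of R J) ≅ ClSub.idealMod i.ker) := by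
  let O := Coh.structureModule Y
  have hO : Coh.IsQCoh O := QCoh.isQCoh_structureModule
  haveI := isIso_homOfElem_self (A := R) hO
  let φA : O ≅ tA O (ModuleCat.of R R) := asIso (homOfElem O (ModuleCat.of R R) (1 : R))
  let θ : tA O (ModuleCat.of R J) ⟶ O :=
    (CohIII.tensorAFunctor R O).map (ModuleCat.ofHom J.subtype) ≫ φA.inv
  have hker := AmpleVan.ker_ideal_of_isPullback sq
  have hmem : ∀ (W : Y.affineOpens) (z : Γ(tA O (ModuleCat.of R J), W.1)),
      (show Γ(Y, W.1) from θ.app W.1 z) ∈ i.ker.ideal W := by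
    intro W z
    letI := secModule (Coh.toGlobal π) O W.1
    obtain ⟨w, rfl⟩ := (bijective_tauA O hO (ModuleCat.of R J) W.2).2 z
    induction w using TensorProduct.induction_on with
    | zero => rw [map_zero, map_zero]; exact zero_mem _
    | add a b ha hb => rw [map_add, map_add]; exact add_mem ha hb
    | tmul s a =>
      rw [show θ.app W.1 (tauA O _ W.1 (s ⊗ₜ[R] a)) = (a : R) • s from tA_map_elem W.2 φA rfl s a, hker]
      exact Ideal.mul_mem_right _ _ (Ideal.mem_map_of_mem _ a.2)
  have hθ : θ ≫ ClSub.toSubscheme i.ker = 0 := by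
    refine FFun.hom_eq_zero_of_cover (QCoh.isQCoh_tA O hO _)
      (QCoh.isQCoh_pushforward _ QCoh.isQCoh_structureModule) _ (fun W : Y.affineOpens => W.1) (fun W => W.2)
      (fun x => ?_) fun W t => ?_
    · obtain ⟨V, hV, hx, -⟩ := exists_isAffineOpen_mem_and_subset (x := x) (U := ⊤) trivial
      exact ⟨⟨V, hV⟩, hx⟩
    · have := hmem W t
      rw [← i.ker.ker_subschemeι_app W, RingHom.mem_ker] at this
      exact this
  let θ' : tA O (ModuleCat.of R J) ⟶ ClSub.idealMod i.ker := kernel.lift _ θ hθ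
  have hθ' : ∀ W z, OmegaSh.idealSect i.ker W (θ'.app W z) = θ.app W z := fun W z =>
    congr(($(kernel.lift_ι (ClSub.toSubscheme i.ker) θ hθ)).app W z)
  refine ⟨@asIso _ _ _ _ θ' (isIso_of_isBasis _ Y.isBasis_affineOpens fun W hW => ⟨?_, ?_⟩)⟩
  · letI := secModule (Coh.toGlobal π) O W
    haveI := flat_sec (R := R) hW
    refine (injective_iff_map_eq_zero _).2 fun z hz => ?_
    obtain ⟨w, rfl⟩ := (bijective_tauA O hO (ModuleCat.of R J) hW).2 z
    have h0 : θ.app W (tauA O _ W w) = 0 := by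
      rw [← hθ', hz, map_zero]
    have key : ∀ v : Γ(O, W) ⊗[R] J, θ.app W (tauA O (ModuleCat.of R J) W v) =
        TensorProduct.rid R Γ(O, W) (J.subtype.lTensor Γ(O, W) v) := fun v => by
      induction v using TensorProduct.induction_on with
      | zero => simp only [map_zero]
      | add a b ha hb => simp only [map_add, ha, hb]
      | tmul s a =>
        rw [show θ.app W (tauA O _ W (s ⊗ₜ[R] a)) = (a : R) • s from tA_map_elem hW φA rfl s a]
        simp
    rw [key] at h0
    have h1 := Module.Flat.lTensor_preserves_injective_linearMap (M := Γ(O, W)) J.subtype J.injective_subtype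
    rw [h1 (((TensorProduct.rid R Γ(O, W)).injective (h0.trans (map_zero _).symm)).trans (map_zero _).symm), map_zero]
  · intro x
    letI := secModule (Coh.toGlobal π) O W
    have hx := OmegaLib.idealSect_mem i.ker ⟨W, hW⟩ x
    rw [hker] at hx
    suffices ∃ z, θ.app W z = OmegaSh.idealSect i.ker W x from this.imp fun z hz =>
      OmegaLib.idealSect_injective i.ker W ((hθ' W z).trans hz)
    have : ∀ y ∈ J.map (AmpleVan.scal R W), ∀ r : Γ(Y, W), ∃ z, θ.app W z = r * y := by
      intro y hy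
      refine Submodule.span_induction (p := fun y _ => ∀ r : Γ(Y, W), ∃ z, θ.app W z = r * y) ?_ ?_ ?_ ?_ hy
      · rintro _ ⟨a, ha, rfl⟩ r
        refine ⟨tauA O (ModuleCat.of R J) W ((show Γ(O, W) from r) ⊗ₜ[R] (⟨a, ha⟩ : J)),
          (tA_map_elem hW φA rfl _ _).trans ?_⟩
        exact mul_comm (AmpleVan.scal R W a) r
      · exact fun r => ⟨0, (map_zero _).trans (mul_zero r).symm⟩
      · intro a b _ _ ha hb r
        obtain ⟨z, hz⟩ := ha r
        obtain ⟨z', hz'⟩ := hb r
        exact ⟨z + z', (map_add _ _ _).trans ((congrArg₂ (· + ·) hz hz').trans (mul_add r a b).symm)⟩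
      · intro c a _ ha r
        obtain ⟨z, hz⟩ := ha (r * c)
        exact ⟨z, hz.trans (mul_assoc r c a)⟩
    obtain ⟨z, hz⟩ := this _ hx 1
    exact ⟨z, hz.trans (one_mul (OmegaSh.idealSect i.ker W x))⟩

omit [IsClosedImmersion i] in
/-- Cohomology of the reduction modulo the maximal ideal. -/
theorem subsingleton_HH_tA_quot {Y₀ : Scheme.{u}} {j : Y₀ ⟶ Y} {m : Ideal R}
    {r : Y₀ ⟶ Spec (CommRingCat.of (R ⧸ m))}
    (sq : IsPullback j r π (Spec.map (CommRingCat.ofHom (Ideal.Quotient.mk m)))) (p : ℕ)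
    (h : Subsingleton (Coh.HH Y₀ (Coh.structureModule Y₀) p)) :
    Subsingleton (Coh.HH Y (tA (Coh.structureModule Y) (ModuleCat.of R (R ⧸ m))) p) := by
  haveI : IsClosedImmersion j := MorphismProperty.of_isPullback sq.flip
    (IsClosedImmersion.spec_of_surjective _ Ideal.Quotient.mk_surjective)
  let O := Coh.structureModule Y
  have hO : Coh.IsQCoh O := QCoh.isQCoh_structureModule
  obtain ⟨hz, hiso⟩ := AmpleVan.unit_desc_iso sq hO
  haveI := hiso
  haveI := isIso_desc_quotHom (A := R) hO m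
  let e₁ : tA O (ModuleCat.of R (R ⧸ m)) ≅ (Scheme.Modules.pushforward j).obj ((Scheme.Modules.pullback j).obj O) :=
    (asIso (cokernel.desc (Formal.smulFamily m O) (quotHom O m) (smulFamily_quotHom O m))).symm ≪≫
      asIso (cokernel.desc _ _ hz)
  let e₂ : (Scheme.Modules.pullback j).obj O ≅ Coh.structureModule Y₀ :=
    @asIso _ _ _ _ (show (Scheme.Modules.pullback j).obj O ⟶ Coh.structureModule Y₀ from
        SheafOfModules.pullbackObjUnitToUnit j.toRingCatSheafHom)
      (inferInstanceAs (IsIso (SheafOfModules.pullbackObjUnitToUnit j.toRingCatSheafHom)))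
  haveI : Coh.IsQCoh (Coh.structureModule Y₀) := QCoh.isQCoh_structureModule
  obtain ⟨e⟩ := S0012.result j (Coh.structureModule Y₀) p
  haveI := h
  exact QCoh.subsingleton_HH_of_iso ((Scheme.Modules.pushforward j).mapIso e₂.symm ≪≫ e₁.symm) p
    e.symm.toEquiv.subsingleton

theorem ker_sq {J : Ideal R} {q : Z ⟶ Spec (CommRingCat.of (R ⧸ J))}
    (sq : IsPullback i q π (Spec.map (CommRingCat.ofHom (Ideal.Quotient.mk J)))) (hJ : J * J = ⊥) :
    i.ker ^ 2 = ⊥ := by
  ext W : 2
  rw [Scheme.IdealSheafData.ideal_pow, Pi.pow_apply, AmpleVan.ker_ideal_of_isPullback sq W,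
    Scheme.IdealSheafData.ideal_bot, pow_two, ← Ideal.map_mul, hJ, Ideal.map_bot]
  rfl

/-- Cohomology of the ideal of a small thickening. -/
theorem subsingleton_HH_layer [IsNoetherianRing R] [Flat π] {Y₀ : Scheme.{u}} {j : Y₀ ⟶ Y} {m J : Ideal R}
    [m.IsMaximal] (hmJ : m * J = ⊥)
    {q : Z ⟶ Spec (CommRingCat.of (R ⧸ J))}
    (sq : IsPullback i q π (Spec.map (CommRingCat.ofHom (Ideal.Quotient.mk J))))
    {r : Y₀ ⟶ Spec (CommRingCat.of (R ⧸ m))}
    (sq₀ : IsPullback j r π (Spec.map (CommRingCat.ofHom (Ideal.Quotient.mk m)))) (p : ℕ)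
    (h : Subsingleton (Coh.HH Y₀ (Coh.structureModule Y₀) p)) :
    Subsingleton (Coh.HH Y (ClSub.idealMod i.ker) p) := by
  classical
  obtain ⟨e⟩ := exists_iso_tA sq
  refine QCoh.subsingleton_HH_of_iso e p ?_
  have hann : Module.IsTorsionBySet R J (m : Set R) := fun x a => by
    refine Subtype.ext ?_
    have : (a : R) * (x : R) ∈ m * J := Ideal.mul_mem_mul a.2 x.2
    rw [hmJ] at this
    exact this
  letI : Module (R ⧸ m) J := hann.module
  letI : Field (R ⧸ m) := Ideal.Quotient.field m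
  haveI : IsScalarTower R (R ⧸ m) J := hann.isScalarTower
  haveI : Module.Finite R J := Module.IsNoetherian.finite R J
  haveI : Module.Finite (R ⧸ m) J := Module.Finite.of_restrictScalars_finite R (R ⧸ m) J
  let b := Module.finBasis (R ⧸ m) J
  let ii : Fin (Module.finrank (R ⧸ m) J) → (ModuleCat.of R (R ⧸ m) ⟶ ModuleCat.of R J) := fun k =>
    ModuleCat.ofHom ((LinearMap.toSpanSingleton (R ⧸ m) J (b k)).restrictScalars R)
  let pp : Fin (Module.finrank (R ⧸ m) J) → (ModuleCat.of R J ⟶ ModuleCat.of R (R ⧸ m)) := fun k =>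
    ModuleCat.ofHom ((b.coord k).restrictScalars R)
  refine subsingleton_HH_tA _ _ p ii pp (ModuleCat.hom_ext (LinearMap.ext fun x => ?_))
    (subsingleton_HH_tA_quot sq₀ p h)
  simp only [ModuleCat.hom_sum, LinearMap.coe_sum, Finset.sum_apply, ModuleCat.hom_id, LinearMap.id_apply]
  exact b.sum_repr x

end Groth.Agent.LineLift
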