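import Groth.Agent.LineLift.Kernel
import Groth.Agent.TorsPic.Main

/-!
# Invertible modules on a square-zero thickening
-/

set_option autoImplicit false
set_option linter.style.haveILetI false
set_option maxHeartbeats 1000000
set_option backward.isDefEq.respectTransparency false
set_option backward.isDefEq.respectTransparency.types false

universe u

open CategoryTheory CategoryTheory.Limits AlgebraicGeometry TopologicalSpace Opposite

namespace Groth.Agent.LineLift

open Groth.Agent Groth.Agent.AModX Groth.Agent.InvX Groth.Agent.QCoh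

variable {X : Scheme.{u}} {I : X.IdealSheafData}

theorem sum4 {A : Type*} [AddCommMonoid A] (F : Fin (3 + 1) → A) : ∑ x, F x = F 0 + F 1 + F 2 + F 3 :=
  Fin.sum_univ_four F

theorem sum3 {A : Type*} [AddCommMonoid A] (F : Fin (2 + 1) → A) : ∑ x, F x = F 0 + F 1 + F 2 :=
  Fin.sum_univ_three F

theorem sum2 {A : Type*} [AddCommMonoid A] (F : Fin (1 + 1) → A) : ∑ x, F x = F 0 + F 1 :=
  Fin.sum_univ_two F

theorem exists_lift [X.IsSeparated] (hI : I ^ 2 = ⊥) (h2 : Subsingleton (Coh.HH X (ClSub.idealMod I) 2))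
    (L₀ : I.subscheme.Modules) (hL₀ : PicF.IsInvertible L₀) :
    ∃ L : X.Modules, PicF.IsInvertible L ∧ Nonempty ((Scheme.Modules.pullback I.subschemeι).obj L ≅ L₀) := by
  haveI : Surjective I.subschemeι := ⟨surjective_ι hI⟩
  let i := I.subschemeι
  choose U hpU hU e he using TorsPic.exists_chart i hL₀
  have hcov : ⨆ p, U p = ⊤ := top_le_iff.1 fun x _ => Opens.mem_iSup.2 ⟨x, hpU x⟩
  choose g hg using fun p q => (he q).exists_coord
    (i.preimage_mono (inf_le_right : U p ⊓ U q ≤ U q)) (res L₀ (i.preimage_mono (inf_le_left : U p ⊓ U q ≤ U p)) (e p))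
  have hgu : ∀ p q, IsUnit (g p q) := by
    intro p q
    obtain ⟨r, hr⟩ := (he p).exists_coord (i.preimage_mono (inf_le_left : U p ⊓ U q ≤ U p))
      (res L₀ (i.preimage_mono (inf_le_right : U p ⊓ U q ≤ U q)) (e q))
    refine IsUnit.of_mul_eq_one r ((he q).coord_unique (i.preimage_mono inf_le_right) ?_)
    rw [one_smul, mul_comm, mul_smul, ← hg, ← hr]
  choose G₀ hG₀ using fun p q => i.app_surjective (U p ⊓ U q) ((hU p).inf (hU q)) (g p q)
  have hG₀u : ∀ p q, IsUnit (G₀ p q) := fun p q => TorsPic.isUnit_of_isUnit_app i _ ((hG₀ p q).symm ▸ hgu p q)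
  let u : ∀ p q, Γ(X, U p ⊓ U q)ˣ := fun p q => (hG₀u p q).unit
  let G : ∀ (p q : X) (W : X.Opens) (_ : W ≤ U p) (_ : W ≤ U q), Γ(X, W) := fun p q W hp hq =>
    resR (le_inf hp hq) (u p q : Γ(X, U p ⊓ U q))
  let Gi : ∀ (p q : X) (W : X.Opens) (_ : W ≤ U p) (_ : W ≤ U q), Γ(X, W) := fun p q W hp hq =>
    resR (le_inf hp hq) (↑(u p q)⁻¹ : Γ(X, U p ⊓ U q))
  have hGi : ∀ p q W hp hq, G p q W hp hq * Gi p q W hp hq = 1 := fun p q W hp hq => by
    rw [← map_mul, Units.mul_inv, map_one]
  have hiG : ∀ p q r W (hp : W ≤ U p) (hq : W ≤ U q) (hr : W ≤ U r),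
      i.app W (G p r W hp hr) = i.app W (G q r W hq hr * G p q W hp hq) := by
    intro p q r W hp hq hr
    rw [map_mul]
    show i.app W (resR _ (G₀ p r)) = i.app W (resR _ (G₀ q r)) * i.app W (resR _ (G₀ p q))
    rw [app_res, app_res, app_res, hG₀, hG₀, hG₀]
    refine (he r).coord_unique (i.preimage_mono hr) ?_
    have e1 := congrArg (res L₀ (i.preimage_mono (le_inf hq hr))) (hg q r)
    have e2 := congrArg (res L₀ (i.preimage_mono (le_inf hp hq))) (hg p q)
    have e3 := congrArg (res L₀ (i.preimage_mono (le_inf hp hr))) (hg p r)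
    rw [res_smul, res_res, res_res] at e1 e2 e3
    rw [← e3, mul_comm, mul_smul, ← e1, ← e2]
  let ε : ∀ (p q r : X) (W : X.Opens) (_ : W ≤ U p) (_ : W ≤ U q) (_ : W ≤ U r), Γ(X, W) :=
    fun p q r W hp hq hr => G q r W hq hr * G p q W hp hq * Gi p r W hp hr - 1
  have hε : ∀ p q r W hp hq hr, i.app W (ε p q r W hp hq hr) = 0 := fun p q r W hp hq hr => by
    rw [map_sub, map_mul, ← hiG p q r W hp hq hr, ← map_mul, hGi p r W hp hr, map_one, sub_self]
  choose k hk using fun p q r W hp hq hr => OmegaLib.exists_idealSect_eq I W (ε p q r W hp hq hr) (hε p q r W hp hq hr)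
  let c : Ab.Cochain (ClSub.idealMod I).presheaf U 3 := fun σ W =>
    k (σ 0) (σ 1) (σ 2) W.1 (W.2 0) (W.2 1) (W.2 2)
  have hcn : Ab.IsNatural c := by
    intro σ W W' h h' j
    refine OmegaLib.idealSect_injective I W' ?_
    refine (OmegaLib.idealSect_map I j.le _).trans ?_
    rw [hk, hk]
    show resR j.le (_ * _ * _ - 1) = _ * _ * _ - 1
    simp only [map_sub, map_mul, map_one, G, Gi, resR_resR]
  have hcd : Ab.d c = 0 := by
    funext σ W
    refine OmegaLib.idealSect_injective I W.1 ?_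
    simp only [Ab.d, Pi.zero_apply, map_zero, map_sum, map_zsmul, c, hk]
    rw [sum4]
    have key : ∀ (p q r s : X) (hp : W.1 ≤ U p) (hq : W.1 ≤ U q) (hr : W.1 ≤ U r) (hs : W.1 ≤ U s),
        ε q r s W.1 hq hr hs + ε p q s W.1 hp hq hs = ε p r s W.1 hp hr hs + ε p q r W.1 hp hq hr := by
      intro p q r s hp hq hr hs
      have z1 := mul_eq_zero_of_app hI (hε q r s W.1 hq hr hs) (hε p q s W.1 hp hq hs)
      have z2 := mul_eq_zero_of_app hI (hε p r s W.1 hp hr hs) (hε p q r W.1 hp hq hr)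
      have e1 := hGi q s W.1 hq hs
      have e2 := hGi p r W.1 hp hr
      simp only [ε] at z1 z2 ⊢
      linear_combination -z1 + z2 + (G r s W.1 hr hs * G q r W.1 hq hr * G p q W.1 hp hq * Gi p s W.1 hp hs) * (e1 - e2)
    have := key (σ 0) (σ 1) (σ 2) (σ 3) (W.2 0) (W.2 1) (W.2 2) (W.2 3)
    simp +decide [Fin.succAbove]
    first | linear_combination this | (simp only [sub_eq_add_neg] at this ⊢; linear_combination this)
  obtain ⟨b, hbn, hb⟩ := exists_primitive hcov hU (BlowUpX.isQCoh_idealMod I) 1 h2 c hcn hcd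
  let β : ∀ (p q : X) (W : X.Opens) (_ : W ≤ U p) (_ : W ≤ U q), Γ(X, W) := fun p q W hp hq =>
    OmegaSh.idealSect I W (b ![p, q] ⟨W, Fin.cases hp fun j => Fin.cases hq (fun j => j.elim0) j⟩)
  have hβ : ∀ p q (W W' : X.Opens) hp hq (h : W' ≤ W) hp' hq',
      resR h (β p q W hp hq) = β p q W' hp' hq' := fun p q W W' hp hq h hp' hq' =>
    (OmegaLib.idealSect_map I h _).symm.trans (congrArg (OmegaSh.idealSect I W') (hbn _ W W' _ _ (homOfLE h)))
  have hiβ : ∀ p q W hp hq, i.app W (β p q W hp hq) = 0 := fun p q W hp hq =>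
    OmegaLib.subschemeι_app_idealSect I W _
  have hdb : ∀ p q r W hp hq hr, β q r W hq hr - β p r W hp hr + β p q W hp hq = ε p q r W hp hq hr := by
    intro p q r W hp hq hr
    have hle : Ab.Le U ![p, q, r] W := Fin.cases hp fun j => Fin.cases hq (fun j => Fin.cases hr (fun j => j.elim0) j) j
    have := congrArg (OmegaSh.idealSect I W) (congrFun (congrFun hb ![p, q, r]) ⟨W, hle⟩)
    have hval : ∀ (σ : Fin 2 → X) (h : ∀ a, W ≤ U (σ a)),
        OmegaSh.idealSect I W (b σ ⟨W, h⟩) = β (σ 0) (σ 1) W (h 0) (h 1) := fun σ h => by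
      obtain ⟨a, a', rfl⟩ : ∃ a a', σ = ![a, a'] := ⟨σ 0, σ 1, by funext j; fin_cases j <;> rfl⟩
      rfl
    simp only [Ab.d, map_sum, map_zsmul, c, hk] at this
    rw [sum3] at this
    simp only [hval] at this
    simp +decide [Fin.succAbove] at this
    first | linear_combination this | (simp only [sub_eq_add_neg] at this ⊢; linear_combination this)
  let G' : ∀ p q, Γ(X, U p ⊓ U q) := fun p q => G₀ p q * (1 - β p q _ inf_le_left inf_le_right)
  have hG1 : ∀ p q, i.app _ (G' p q) = g p q := fun p q => by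
    rw [map_mul, map_sub, map_one, hiβ p q _ inf_le_left inf_le_right, sub_zero, mul_one, hG₀]
  have hG'u : ∀ p q, IsUnit (G' p q) := fun p q => TorsPic.isUnit_of_isUnit_app i _ ((hG1 p q).symm ▸ hgu p q)
  let t : H23.CocycleMod.Cocycle U :=
    { g := fun p q => (hG'u p q).unit
      trans := fun p q r W hp hq hr => by
        simp only [IsUnit.unit_spec]
        show resR (le_inf hp hr) (G' p r) = resR (le_inf hq hr) (G' q r) * resR (le_inf hp hq) (G' p q)
        simp only [G']
        simp only [map_mul, map_sub, map_one]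
        rw [hβ p r (U p ⊓ U r) W inf_le_left inf_le_right (le_inf hp hr) hp hr,
          hβ q r (U q ⊓ U r) W inf_le_left inf_le_right (le_inf hq hr) hq hr,
          hβ p q (U p ⊓ U q) W inf_le_left inf_le_right (le_inf hp hq) hp hq]
        have hd := hdb p q r W hp hq hr
        have z1 := mul_eq_zero_of_app hI (hiβ q r W hq hr) (hiβ p q W hp hq)
        have z2 := mul_eq_zero_of_app hI (hε p q r W hp hq hr) (hiβ q r W hq hr)
        have z3 := mul_eq_zero_of_app hI (hε p q r W hp hq hr) (hiβ p q W hp hq)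
        have e1 := hGi p r W hp hr
        show G p r W hp hr * _ = G q r W hq hr * _ * (G p q W hp hq * _)
        simp only [ε] at hd z2 z3
        linear_combination (G p r W hp hr) * (hd + z2 + z3) - (G q r W hq hr * G p q W hp hq) * z1 +
          (G q r W hq hr * G p q W hp hq * (β q r W hq hr + β p q W hp hq - 1)) * (1 - e1) * 0 +
          (-(G q r W hq hr * G p q W hp hq) * (1 - β q r W hq hr - β p q W hp hq)) * (-e1) }
  let L' := H23.CocycleMod.mod t
  let f : ∀ p, Γ(L', U p) := H23.CocycleMod.frame t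
  have hf : ∀ p, IsFrame (f p) := H23.CocycleMod.isFrame_frame t
  have hres : ∀ p q, res L' (inf_le_left : U p ⊓ U q ≤ U p) (f p) =
      G' p q • res L' (inf_le_right : U p ⊓ U q ≤ U q) (f q) := fun p q => H23.CocycleMod.res_frame t p q
  refine ⟨L', isInvertible_of_frames fun p => ⟨U p, hpU p, f p, hf p⟩, ?_⟩
  refine TorsPic.nonempty_iso_of_frames (fun p => i ⁻¹ᵁ U p) (fun x => ⟨i x, hpU (i x)⟩) (fun p => pullElt i (f p))
      (fun p => isFrame_pullElt i (hf p)) e he fun p q W hp hq z hz => ?_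
  have hW : W ≤ i ⁻¹ᵁ (U q ⊓ U p) := le_inf hq hp
  have e1 := congrArg (fun s => res ((Scheme.Modules.pullback i).obj L') hW (pullElt i s)) (hres q p)
  simp only [pullElt_smul, ← res_pullElt, res_smul, res_res, hG1] at e1
  rw [e1] at hz
  have hzz : resR hW (g q p) = z := (isFrame_pullElt i (hf p)).coord_unique hp hz
  have e2 := congrArg (res L₀ hW) (hg q p)
  rw [res_smul, res_res, res_res] at e2
  rw [← hzz, ← e2]

theorem nonempty_iso (hI : I ^ 2 = ⊥) (h1 : Subsingleton (Coh.HH X (ClSub.idealMod I) 1))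
    (L L' : X.Modules) (hL : PicF.IsInvertible L) (hL' : PicF.IsInvertible L')
    (φ : (Scheme.Modules.pullback I.subschemeι).obj L ≅ (Scheme.Modules.pullback I.subschemeι).obj L') :
    Nonempty (L ≅ L') := by
  haveI : Surjective I.subschemeι := ⟨surjective_ι hI⟩
  let i := I.subschemeι
  have hloc : ∀ x : X, ∃ (U : X.Opens) (_ : IsAffineOpen U) (_ : x ∈ U) (e : Γ(L, U)) (f : Γ(L', U)),
      IsFrame e ∧ IsFrame f := fun x => by
    obtain ⟨V, hxV, e, he⟩ := exists_frame hL x
    obtain ⟨V', hxV', f, hf⟩ := exists_frame hL' x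
    obtain ⟨_, ⟨W, hW, rfl⟩, hxW, hle⟩ :=
      X.isBasis_affineOpens.exists_subset_of_mem_open (show x ∈ V ⊓ V' from ⟨hxV, hxV'⟩) (V ⊓ V').2
    exact ⟨W, hW, hxW, _, _, he.res (fun z hz => (hle hz).1), hf.res (fun z hz => (hle hz).2)⟩
  choose U hU hpU e f₀ he hf₀ using hloc
  have hcov : ⨆ p, U p = ⊤ := top_le_iff.1 fun x _ => Opens.mem_iSup.2 ⟨x, hpU x⟩
  have hv : ∀ p, ∃ f : Γ(L', U p), IsFrame f ∧
      φ.hom.app (i ⁻¹ᵁ U p) (pullElt i (e p)) = pullElt i f := by
    intro p
    have hF := (isFrame_pullElt i (he p)).map_iso φ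
    obtain ⟨a, ha⟩ := (isFrame_pullElt i (hf₀ p)).exists_coord le_rfl (φ.hom.app _ (pullElt i (e p)))
    obtain ⟨a', ha'⟩ := hF.exists_coord le_rfl (pullElt i (f₀ p))
    rw [res_self] at ha ha'
    have hau : IsUnit a := IsUnit.of_mul_eq_one a' ((isFrame_pullElt i (hf₀ p)).coord_unique le_rfl (by
      rw [res_self, one_smul, mul_comm, mul_smul, ← ha, ← ha']))
    obtain ⟨v, rfl⟩ := i.app_surjective (U p) (hU p) a
    exact ⟨v • f₀ p, (hf₀ p).isUnit_smul (TorsPic.isUnit_of_isUnit_app i _ hau),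
      ha.trans (pullElt_smul i v (f₀ p)).symm⟩
  choose f hf hv using hv
  -- the transition functions
  choose z hz using fun p q (W : X.Opens) (hp : W ≤ U p) (hq : W ≤ U q) => (he p).exists_coord hp (res L hq (e q))
  choose z' hz' using fun p q (W : X.Opens) (hp : W ≤ U p) (hq : W ≤ U q) => (hf p).exists_coord hp (res L' hq (f q))
  have hzu : ∀ p q W hp hq, z q p W hq hp * z p q W hp hq = 1 := fun p q W hp hq => (he p).coord_unique hp (by
    rw [one_smul, mul_smul, ← hz, ← hz])
  have hzr : ∀ p q (W W' : X.Opens) hp hq (h : W' ≤ W) hp' hq',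
      resR h (z p q W hp hq) = z p q W' hp' hq' := fun p q W W' hp hq h hp' hq' => (he p).coord_unique hp' (by
    have := congrArg (res L h) (hz p q W hp hq)
    rw [res_smul, res_res, res_res] at this
    rw [← this, ← hz])
  have hzr' : ∀ p q (W W' : X.Opens) hp hq (h : W' ≤ W) hp' hq',
      resR h (z' p q W hp hq) = z' p q W' hp' hq' := fun p q W W' hp hq h hp' hq' => (hf p).coord_unique hp' (by
    have := congrArg (res L' h) (hz' p q W hp hq)
    rw [res_smul, res_res, res_res] at this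
    rw [← this, ← hz'])
  have hzt : ∀ p q r W hp hq hr, z q r W hq hr * z p q W hp hq = z p r W hp hr := fun p q r W hp hq hr =>
    (he p).coord_unique hp (by rw [mul_smul, ← hz, ← hz, ← hz])
  have hzt' : ∀ p q r W hp hq hr, z' q r W hq hr * z' p q W hp hq = z' p r W hp hr := fun p q r W hp hq hr =>
    (hf p).coord_unique hp (by rw [mul_smul, ← hz', ← hz', ← hz'])
  have hiz : ∀ p q W hp hq, i.app W (z p q W hp hq) = i.app W (z' p q W hp hq) := fun p q W hp hq => by
    have hp' := i.preimage_mono hp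
    have e1 := congrArg (fun s => φ.hom.app _ (pullElt i s)) (hz p q W hp hq)
    have e2 := congrArg (pullElt i) (hz' p q W hp hq)
    simp only [← res_pullElt, pullElt_smul, app_res', Scheme.Modules.Hom.app_smul] at e1 e2
    have key : ∀ r (hr : W ≤ U r), φ.hom.app (i ⁻¹ᵁ W) (res ((Scheme.Modules.pullback i).obj L) (i.preimage_mono hr) (pullElt i (e r))) =
        res ((Scheme.Modules.pullback i).obj L') (i.preimage_mono hr) (pullElt i (f r)) := fun r hr =>
      (AModX.app_res φ.hom _ _).trans (congrArg _ (hv r))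
    rw [key q hq, key p hp, e2] at e1
    exact ((isFrame_pullElt i (hf p)).coord_unique hp' e1).symm
  let ε : ∀ (p q : X) (W : X.Opens) (_ : W ≤ U p) (_ : W ≤ U q), Γ(X, W) := fun p q W hp hq =>
    z' p q W hp hq * z q p W hq hp - 1
  have hε : ∀ p q W hp hq, i.app W (ε p q W hp hq) = 0 := fun p q W hp hq => by
    rw [map_sub, map_mul, ← hiz, ← map_mul, mul_comm, hzu, sub_self]
  choose k hk using fun p q W hp hq => OmegaLib.exists_idealSect_eq I W (ε p q W hp hq) (hε p q W hp hq)
  let c : Ab.Cochain (ClSub.idealMod I).presheaf U 2 := fun σ W => k (σ 0) (σ 1) W.1 (W.2 0) (W.2 1)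
  have hcn : Ab.IsNatural c := by
    intro σ W W' h h' j
    refine OmegaLib.idealSect_injective I W' ?_
    refine (OmegaLib.idealSect_map I j.le _).trans ?_
    rw [hk, hk]
    show resR j.le (_ * _ - 1) = _ * _ - 1
    rw [map_sub, map_mul, map_one, hzr' _ _ W W' _ _ j.le (h' 0) (h' 1), hzr _ _ W W' _ _ j.le (h' 1) (h' 0)]
  have hcd : Ab.d c = 0 := by
    funext σ W
    refine OmegaLib.idealSect_injective I W.1 ?_
    simp only [Ab.d, Pi.zero_apply, map_zero, map_sum, map_zsmul, c, hk]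
    rw [sum3]
    have key : ∀ (p q r : X) (hp : W.1 ≤ U p) (hq : W.1 ≤ U q) (hr : W.1 ≤ U r),
        ε q r W.1 hq hr + ε p q W.1 hp hq = ε p r W.1 hp hr := by
      intro p q r hp hq hr
      have z1 := mul_eq_zero_of_app hI (hε q r W.1 hq hr) (hε p q W.1 hp hq)
      have e1 := hzt r q p W.1 hr hq hp
      have e2 := hzt' p q r W.1 hp hq hr
      simp only [ε] at z1 ⊢
      linear_combination -z1 + (z' p q W.1 hp hq * z' q r W.1 hq hr) * e1 + (z r p W.1 hr hp) * e2
    have := key (σ 0) (σ 1) (σ 2) (W.2 0) (W.2 1) (W.2 2)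
    simp +decide [Fin.succAbove]
    first | linear_combination this | (simp only [sub_eq_add_neg] at this ⊢; linear_combination this)
  obtain ⟨b, hbn, hb⟩ := exists_primitive_one hcov h1 c hcn hcd
  let β : ∀ (p : X) (W : X.Opens) (_ : W ≤ U p), Γ(X, W) := fun p W hp =>
    OmegaSh.idealSect I W (b ![p] ⟨W, Fin.cases hp fun j => j.elim0⟩)
  have hβ : ∀ p (W W' : X.Opens) hp (h : W' ≤ W) hp', resR h (β p W hp) = β p W' hp' := fun p W W' hp h hp' =>
    (OmegaLib.idealSect_map I h _).symm.trans (congrArg (OmegaSh.idealSect I W') (hbn _ W W' _ _ (homOfLE h)))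
  have hdb : ∀ p q W hp hq, β q W hq - β p W hp = ε p q W hp hq := by
    intro p q W hp hq
    have hle : Ab.Le U ![p, q] W := Fin.cases hp fun j => Fin.cases hq (fun j => j.elim0) j
    have := congrArg (OmegaSh.idealSect I W) (congrFun (congrFun hb ![p, q]) ⟨W, hle⟩)
    have hval : ∀ (σ : Fin 1 → X) (h : ∀ a, W ≤ U (σ a)),
        OmegaSh.idealSect I W (b σ ⟨W, h⟩) = β (σ 0) W (h 0) := fun σ h => by
      obtain ⟨a, rfl⟩ : ∃ a, σ = ![a] := ⟨σ 0, by funext j; fin_cases j; rfl⟩
      rfl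
    simp only [Ab.d, map_sum, map_zsmul, c, hk] at this
    rw [sum2] at this
    simp only [hval] at this
    simp +decide [Fin.succAbove] at this
    first | linear_combination this | (simp only [sub_eq_add_neg] at this ⊢; linear_combination this)
  have hiβ : ∀ p W hp, i.app W (β p W hp) = 0 := fun p W hp => OmegaLib.subschemeι_app_idealSect I W _
  refine TorsPic.nonempty_iso_of_frames U (fun x => ⟨x, hpU x⟩) e he (fun p => (1 - β p _ le_rfl) • f p)
    (fun p => (hf p).isUnit_smul (TorsPic.isUnit_of_isUnit_app i _ (by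
      rw [map_sub, map_one, hiβ p (U p) le_rfl, sub_zero]; exact isUnit_one))) fun p q W hp hq w hw => ?_
  have hwz : w = z p q W hp hq := (he p).coord_unique hp (hw.symm.trans (hz p q W hp hq))
  subst hwz
  rw [res_smul, res_smul, map_sub, map_sub, map_one, map_one, hβ q (U q) W le_rfl hq hq,
    hβ p (U p) W le_rfl hp hp, hz' p q W hp hq, smul_smul, smul_smul]
  congr 1
  have hd := hdb p q W hp hq
  have e1 := hzu p q W hp hq
  have z1 := mul_eq_zero_of_app hI (hiβ q W hq) (hiβ q W hq)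
  have z2 := mul_eq_zero_of_app hI (hiβ q W hq) (hiβ p W hp)
  simp only [ε] at hd
  linear_combination (-(1 - β q W hq) * z' p q W hp hq) * e1 - (z p q W hp hq * (1 - β q W hq)) * hd -
    (z p q W hp hq) * z1 + (z p q W hp hq) * z2
where
  app_res' {Y : Scheme.{u}} {M N : Y.Modules} (ψ : M ⟶ N) {V W : Y.Opens} (h : W ≤ V) (s : Γ(M, V)) :
      ψ.app W (res M h s) = res N h (ψ.app V s) := AModX.app_res ψ h s

end Groth.Agent.LineLift
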