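import Groth.Agent.LineLift.Layer
import Groth.Agent.LineLift.Main
import Groth.Agent.QCoh.ProperOver
import Groth.Agent.PicClLib.Basic

/-!
# Invertible modules on adic systems
-/

set_option autoImplicit false
set_option linter.style.haveILetI false
set_option maxHeartbeats 1000000
set_option backward.isDefEq.respectTransparency false
set_option backward.isDefEq.respectTransparency.types false

universe u

open CategoryTheory CategoryTheory.Limits AlgebraicGeometry TopologicalSpace Opposite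

namespace Groth.Agent.LineLift

open Groth.Agent

section Iso

variable {X Y Z : Scheme.{u}}

/-- Invertibility passes to pullbacks along isomorphisms and back. -/
theorem exists_of_iso (e : Z ⟶ X) [IsIso e] (i : X ⟶ Y) (i' : Z ⟶ Y) (he : e ≫ i = i') (L : Z.Modules)
    (hL : PicF.IsInvertible L)
    (h : ∀ L₀ : X.Modules, PicF.IsInvertible L₀ → ∃ L' : Y.Modules, PicF.IsInvertible L' ∧
      Nonempty ((Scheme.Modules.pullback i).obj L' ≅ L₀)) :
    ∃ L' : Y.Modules, PicF.IsInvertible L' ∧ Nonempty ((Scheme.Modules.pullback i').obj L' ≅ L) := by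
  obtain ⟨L', hL', ⟨a⟩⟩ := h _ (PicClLib.isInvertible_pullback (inv e) hL)
  exact ⟨L', hL', ⟨(Scheme.Modules.pullbackCongr he.symm).app L' ≪≫ ((Scheme.Modules.pullbackComp e i).app L').symm ≪≫
    (Scheme.Modules.pullback e).mapIso a ≪≫ (Scheme.Modules.pullbackComp e (inv e)).app L ≪≫
    (Scheme.Modules.pullbackCongr (IsIso.hom_inv_id e)).app L ≪≫ (Scheme.Modules.pullbackId Z).app L⟩⟩

end Iso

section Step

variable {R S k : Type u} [CommRing R] [IsNoetherianRing R] [CommRing S] [CommRing k] (φ : R →+* S) (ψ : R →+* k)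
  {Y Z Y₀ : Scheme.{u}} (π : Y ⟶ Spec (CommRingCat.of R)) {i : Z ⟶ Y} {q : Z ⟶ Spec (CommRingCat.of S)}
  {j : Y₀ ⟶ Y} {r : Y₀ ⟶ Spec (CommRingCat.of k)}

theorem step_aux (hφ : Function.Surjective φ) (hψ : Function.Surjective ψ) [(RingHom.ker ψ).IsMaximal]
    (hle : RingHom.ker φ ≤ RingHom.ker ψ) (hker : RingHom.ker ψ * RingHom.ker φ = ⊥) [Flat π]
    (sq : IsPullback i q π (Spec.map (CommRingCat.ofHom φ)))
    (sq₀ : IsPullback j r π (Spec.map (CommRingCat.ofHom ψ))) :
    IsClosedImmersion i ∧ i.ker ^ 2 = ⊥ ∧ ∀ p, Subsingleton (Coh.HH Y₀ (Coh.structureModule Y₀) p) →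
      Subsingleton (Coh.HH Y (ClSub.idealMod i.ker) p) := by
  letI : Y.Over (Spec (CommRingCat.of R)) := ⟨π⟩
  haveI : Flat (Y ↘ Spec (CommRingCat.of R)) := ‹Flat π›
  obtain ⟨q', sq'⟩ := exists_quot_square (Y := Y) φ hφ sq
  obtain ⟨r', sq₀'⟩ := exists_quot_square (Y := Y) ψ hψ sq₀
  haveI : IsClosedImmersion i := MorphismProperty.of_isPullback sq'.flip
    (IsClosedImmersion.spec_of_surjective _ Ideal.Quotient.mk_surjective)
  refine ⟨inferInstance, ker_sq sq' (le_bot_iff.1 ((Ideal.mul_mono_left hle).trans hker.le)), fun p h =>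
    subsingleton_HH_layer hker sq' sq₀' p h⟩

theorem exists_lift_step (hφ : Function.Surjective φ) (hψ : Function.Surjective ψ) [(RingHom.ker ψ).IsMaximal]
    (hle : RingHom.ker φ ≤ RingHom.ker ψ) (hker : RingHom.ker ψ * RingHom.ker φ = ⊥) [Flat π] [Y.IsSeparated]
    (sq : IsPullback i q π (Spec.map (CommRingCat.ofHom φ)))
    (sq₀ : IsPullback j r π (Spec.map (CommRingCat.ofHom ψ)))
    (h2 : Subsingleton (Coh.HH Y₀ (Coh.structureModule Y₀) 2)) (L : Z.Modules) (hL : PicF.IsInvertible L) :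
    ∃ L' : Y.Modules, PicF.IsInvertible L' ∧ Nonempty ((Scheme.Modules.pullback i).obj L' ≅ L) := by
  obtain ⟨hi, hI, hv⟩ := step_aux φ ψ π hφ hψ hle hker sq sq₀
  haveI := hi
  exact exists_of_iso i.toImage i.ker.subschemeι i i.toImage_imageι L hL (exists_lift hI (hv 2 h2))

theorem iso_step (hφ : Function.Surjective φ) (hψ : Function.Surjective ψ) [(RingHom.ker ψ).IsMaximal]
    (hle : RingHom.ker φ ≤ RingHom.ker ψ) (hker : RingHom.ker ψ * RingHom.ker φ = ⊥) [Flat π]
    (sq : IsPullback i q π (Spec.map (CommRingCat.ofHom φ)))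
    (sq₀ : IsPullback j r π (Spec.map (CommRingCat.ofHom ψ)))
    (h1 : Subsingleton (Coh.HH Y₀ (Coh.structureModule Y₀) 1)) (L L' : Y.Modules) (hL : PicF.IsInvertible L)
    (hL' : PicF.IsInvertible L') (a : (Scheme.Modules.pullback i).obj L ≅ (Scheme.Modules.pullback i).obj L') :
    Nonempty (L ≅ L') := by
  obtain ⟨hi, hI, hv⟩ := step_aux φ ψ π hφ hψ hle hker sq sq₀
  haveI := hi
  let c : ∀ M : Y.Modules, (Scheme.Modules.pullback (inv i.toImage)).obj ((Scheme.Modules.pullback i).obj M) ≅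
      (Scheme.Modules.pullback i.ker.subschemeι).obj M := fun M =>
    (Scheme.Modules.pullbackComp (inv i.toImage) i).app M ≪≫
      (Scheme.Modules.pullbackCongr ((IsIso.inv_comp_eq _).2 i.toImage_imageι.symm)).app M
  exact nonempty_iso hI (hv 1 h1) L L' hL hL'
    ((c L).symm ≪≫ (Scheme.Modules.pullback (inv i.toImage)).mapIso a ≪≫ c L')

end Step

section Sys

variable (A : Type u) [CommRing A] [IsLocalRing A] [IsNoetherianRing A]


/-- The transition map of the truncations. -/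
noncomputable def fac {a b : ℕ} (h : a ≤ b) : A ⧸ (IsLocalRing.maximalIdeal A) ^ b →+* A ⧸ (IsLocalRing.maximalIdeal A) ^ a :=
  Ideal.Quotient.factor (Ideal.pow_le_pow_right h)

theorem fac_surjective {a b : ℕ} (h : a ≤ b) : Function.Surjective (fac A h) :=
  Ideal.Quotient.factor_surjective _

theorem ker_fac {a b : ℕ} (h : a ≤ b) : RingHom.ker (fac A h) = ((IsLocalRing.maximalIdeal A) ^ a).map (Ideal.Quotient.mk ((IsLocalRing.maximalIdeal A) ^ b)) :=
  Ideal.Quotient.factor_ker _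

theorem isMaximal_ker {b : ℕ} (h : 1 ≤ b) : (RingHom.ker (fac A h)).IsMaximal := by
  haveI : ((IsLocalRing.maximalIdeal A) ^ 1).IsMaximal := by rw [pow_one]; infer_instance
  letI := Ideal.Quotient.field ((IsLocalRing.maximalIdeal A) ^ 1)
  exact RingHom.ker_isMaximal_of_surjective _ (fac_surjective A h)

theorem ker_mul_ker {n : ℕ} (h : 1 ≤ n + 2) (h' : n + 1 ≤ n + 2) :
    RingHom.ker (fac A h) * RingHom.ker (fac A h') = ⊥ := by
  rw [ker_fac, ker_fac, ← Ideal.map_mul, ← pow_add, show 1 + (n + 1) = n + 2 by omega, Ideal.map_quotient_self]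

variable {Xs : ℕ → Scheme.{u}} {fs : ∀ n : ℕ, Xs n ⟶ Spec (CommRingCat.of (A ⧸ (IsLocalRing.maximalIdeal A) ^ (n + 1)))}
  {ts : ∀ n : ℕ, Xs n ⟶ Xs (n + 1)}
  (hcart : ∀ n : ℕ, IsPullback (ts n) (fs n) (fs (n + 1))
    (Spec.map (CommRingCat.ofHom (fac A (Nat.le_succ (n + 1))))))

include hcart in
theorem exists_sq₀ : ∀ n, ∃ (j : Xs 0 ⟶ Xs n),
    IsPullback j (fs 0) (fs n) (Spec.map (CommRingCat.ofHom (fac A (Nat.succ_le_succ (Nat.zero_le n))))) := by
  intro n
  induction n with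
  | zero =>
    refine ⟨𝟙 _, ?_⟩
    rw [show CommRingCat.ofHom (fac A (Nat.succ_le_succ (Nat.zero_le 0))) = 𝟙 _ from
      CommRingCat.hom_ext (Ideal.Quotient.ringHom_ext (RingHom.ext fun x => rfl)), Spec.map_id]
    exact IsPullback.id_horiz _
  | succ n ih =>
    obtain ⟨j, hj⟩ := ih
    refine ⟨j ≫ ts n, ?_⟩
    rw [show CommRingCat.ofHom (fac A (Nat.succ_le_succ (Nat.zero_le (n + 1)))) =
        CommRingCat.ofHom (fac A (Nat.le_succ (n + 1))) ≫ CommRingCat.ofHom (fac A (Nat.succ_le_succ (Nat.zero_le n))) from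
      CommRingCat.hom_ext (Ideal.Quotient.ringHom_ext (RingHom.ext fun x => rfl)), Spec.map_comp]
    exact hj.paste_horiz (hcart n)

include hcart in
theorem isSeparated (hflat : ∀ n, Flat (fs n)) [(Xs 0).IsSeparated] : ∀ n, (Xs n).IsSeparated := by
  intro n
  induction n with
  | zero => infer_instance
  | succ n ih =>
    obtain ⟨j, hj⟩ := exists_sq₀ A hcart (n + 1)
    haveI := hflat (n + 1)
    haveI := isMaximal_ker A (Nat.succ_le_succ (Nat.zero_le (n + 1)))
    obtain ⟨hi, hI, -⟩ := step_aux _ _ (fs (n + 1)) (fac_surjective A (Nat.le_succ (n + 1)))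
      (fac_surjective A (Nat.succ_le_succ (Nat.zero_le (n + 1))))
      (by rw [ker_fac, ker_fac]; exact Ideal.map_mono (Ideal.pow_le_pow_right (by omega)))
      (ker_mul_ker A _ _) (hcart n) hj
    haveI := hi
    haveI : Surjective (ts n).ker.subschemeι := ⟨surjective_ι hI⟩
    haveI : Surjective (ts n) := by
      rw [← (ts n).toImage_imageι]
      exact MorphismProperty.comp_mem @Surjective _ _ inferInstance ‹Surjective (ts n).ker.subschemeι›
    haveI : IsSeparated (ts n ≫ terminal.from (Xs (n + 1))) := by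
      rw [Limits.terminal.comp_from]; exact ih.1
    exact ⟨QCoh.isSeparated_of_comp_surjective (ts n) (terminal.from (Xs (n + 1)))⟩

include hcart in
theorem exists_system (hflat : ∀ n, Flat (fs n)) [(Xs 0).IsSeparated]
    (h2 : Subsingleton (Coh.HH (Xs 0) (Coh.structureModule (Xs 0)) 2))
    (L₀ : (Xs 0).Modules) (hL₀ : PicF.IsInvertible L₀) :
    ∃ L : ∀ n : ℕ, (Xs n).Modules, (∀ n, PicF.IsInvertible (L n)) ∧ Nonempty (L 0 ≅ L₀) ∧
      ∀ n, Nonempty ((Scheme.Modules.pullback (ts n)).obj (L (n + 1)) ≅ L n) := by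
  have step : ∀ n (L : {L : (Xs n).Modules // PicF.IsInvertible L}), ∃ L' : (Xs (n + 1)).Modules,
      PicF.IsInvertible L' ∧ Nonempty ((Scheme.Modules.pullback (ts n)).obj L' ≅ L.1) := fun n L => by
    obtain ⟨j, hj⟩ := exists_sq₀ A hcart (n + 1)
    haveI := hflat (n + 1)
    haveI := isMaximal_ker A (Nat.succ_le_succ (Nat.zero_le (n + 1)))
    haveI := isSeparated A hcart hflat (n + 1)
    exact exists_lift_step _ _ (fs (n + 1)) (fac_surjective A (Nat.le_succ (n + 1)))
      (fac_surjective A (Nat.succ_le_succ (Nat.zero_le (n + 1))))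
      (by rw [ker_fac, ker_fac]; exact Ideal.map_mono (Ideal.pow_le_pow_right (by omega)))
      (ker_mul_ker A _ _) (hcart n) hj h2 L.1 L.2
  choose L' hL' he using step
  let Ls : ∀ n, {L : (Xs n).Modules // PicF.IsInvertible L} :=
    fun n => Nat.rec (motive := fun n => {L : (Xs n).Modules // PicF.IsInvertible L}) ⟨L₀, hL₀⟩
      (fun n L => ⟨L' n L, hL' n L⟩) n
  exact ⟨fun n => (Ls n).1, fun n => (Ls n).2, ⟨Iso.refl _⟩, fun n => he n (Ls n)⟩

include hcart in
theorem system_unique (hflat : ∀ n, Flat (fs n))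
    (h1 : Subsingleton (Coh.HH (Xs 0) (Coh.structureModule (Xs 0)) 1))
    (L L' : ∀ n : ℕ, (Xs n).Modules) (hL : ∀ n, PicF.IsInvertible (L n)) (hL' : ∀ n, PicF.IsInvertible (L' n))
    (hLt : ∀ n, Nonempty ((Scheme.Modules.pullback (ts n)).obj (L (n + 1)) ≅ L n))
    (hL't : ∀ n, Nonempty ((Scheme.Modules.pullback (ts n)).obj (L' (n + 1)) ≅ L' n))
    (e₀ : L 0 ≅ L' 0) : ∀ n, Nonempty (L n ≅ L' n) := by
  intro n
  induction n with
  | zero => exact ⟨e₀⟩
  | succ n ih =>
    obtain ⟨j, hj⟩ := exists_sq₀ A hcart (n + 1)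
    haveI := hflat (n + 1)
    haveI := isMaximal_ker A (Nat.succ_le_succ (Nat.zero_le (n + 1)))
    obtain ⟨a⟩ := hLt n
    obtain ⟨b⟩ := hL't n
    obtain ⟨c⟩ := ih
    exact iso_step _ _ (fs (n + 1)) (fac_surjective A (Nat.le_succ (n + 1)))
      (fac_surjective A (Nat.succ_le_succ (Nat.zero_le (n + 1))))
      (by rw [ker_fac, ker_fac]; exact Ideal.map_mono (Ideal.pow_le_pow_right (by omega)))
      (ker_mul_ker A _ _) (hcart n) hj h1 _ _ (hL _) (hL' _) (a ≪≫ c ≪≫ b.symm)

end Sys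

end Groth.Agent.LineLift
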